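import Groth.Agent.L27.FLCDesc.UnivOpen
import Groth.Agent.L28.Noeth.Strat
import Groth.Agent.L28.AWN.Red
import Groth.Agent.S14790

/-! # Common strata descend along surjective morphisms of finite type -/

universe u v

open CategoryTheory CategoryTheory.Limits AlgebraicGeometry Opposite Topology

set_option backward.isDefEq.respectTransparency.types false
set_option linter.style.haveILetI false
set_option linter.unusedSectionVars false

namespace Groth.L27.FLCDesc

open Groth.L28

theorem universallyOpen_of_closedImmersion {Y X : Scheme.{u}} (i : Y ⟶ X) [IsClosedImmersion i] [Surjective i] :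
    UniversallyOpen i := by
  rw [UniversallyOpen.eq]
  intro X' Y' i₁ i₂ f' hf
  have h1 : IsClosedImmersion f' := MorphismProperty.of_isPullback hf.flip inferInstance
  have h2 : Surjective f' := MorphismProperty.of_isPullback hf.flip inferInstance
  exact (IsOpenEmbedding.mk f'.isClosedEmbedding.toIsEmbedding (by
    rw [Set.range_eq_univ.2 f'.surjective]; exact isOpen_univ)).isOpenMap

variable {X' X : Scheme.{u}} [AlgebraicGeometry.IsNoetherian X] [AlgebraicGeometry.IsNoetherian X'] (q : X' ⟶ X)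
  [Surjective q] [LocallyOfFiniteType q] {ι : Type v} (F : ι → EtCoh.Ab X) {n : ℕ} (T : Fin n → Scheme.{u})
  (g : ∀ i, T i ⟶ X') [∀ i, IsImmersion (g i)] (hcov : (⋃ i, Set.range (g i).base) = Set.univ)
  (hF : ∀ k i, EtCoh.IsFiniteLocallyConstant ((EtCoh.pull (g i)).obj ((EtCoh.pull q).obj (F k))))

include hcov hF in
theorem strat_common : Strata.Strat X (fun _ g₀ => ∀ k, Strata.lcPred (F k) g₀) := by
  refine Noeth.strat_of_generic (fun _ _ h g₀ hg k => Strata.stable_lcPred (F k) h g₀ (hg k)) fun T₁ g₁ _ _ _ => ?_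
  let I := Scheme.IdealSheafData.vanishingIdeal (X := T₁) ⊤
  let Z := I.subscheme
  let i : Z ⟶ T₁ := I.subschemeι
  haveI : AlgebraicGeometry.IsReduced Z := Groth.L18.isReduced_vanishingIdeal_subscheme ⊤
  haveI : Surjective i := ⟨fun x => by
    have : x ∈ Set.range I.subschemeι := by rw [Scheme.IdealSheafData.range_subschemeι]; simp [I]
    exact this⟩
  haveI : UniversallyOpen i := universallyOpen_of_closedImmersion i
  have hoe : IsOpenEmbedding i := ⟨i.isClosedEmbedding.toIsEmbedding, by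
    rw [Set.range_eq_univ.2 i.surjective]; exact isOpen_univ⟩
  haveI : Nonempty Z := ⟨(i.surjective (genericPoint T₁)).choose⟩
  haveI : IrreducibleSpace Z :=
    { isPreirreducible_univ := by
        simpa using (PreirreducibleSpace.isPreirreducible_univ (X := T₁)).preimage hoe
      toNonempty := inferInstance }
  haveI : IsIntegral Z := isIntegral_of_irreducibleSpace_of_isReduced Z
  haveI : AlgebraicGeometry.IsNoetherian Z := Noeth.isNoetherian_immersion (i ≫ g₁)
  haveI : QuasiCompact q := quasiCompact_of_compactSpace _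
  let a := pullback.fst q (i ≫ g₁)
  let b := pullback.snd q (i ≫ g₁)
  obtain ⟨π, hπ⟩ := b.surjective (genericPoint Z)
  obtain ⟨j, t, ht⟩ := Set.mem_iUnion.1 (hcov.symm ▸ Set.mem_univ (a π) : a π ∈ _)
  let c := pullback.snd (g j) a
  let d := c ≫ b
  obtain ⟨z₀, hz₀⟩ : π ∈ Set.range c := by
    rw [Scheme.Pullback.range_snd]; exact ⟨t, ht⟩
  haveI : AlgebraicGeometry.IsNoetherian (T j) := Noeth.isNoetherian_immersion (g j)
  haveI : QuasiCompact (g j) := quasiCompact_of_compactSpace _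
  haveI : LocallyOfFiniteType d := inferInstance
  haveI : QuasiCompact d := inferInstance
  haveI : IsLocallyNoetherian (pullback (g j) a) := LocallyOfFiniteType.isLocallyNoetherian d
  haveI : QuasiSeparated d := inferInstance
  have hgen : IsCompact {y : Z | ∀ y' : Z, y' ⤳ y → y' = y} := TopologicalSpace.NoetherianSpace.isCompact _
  obtain ⟨U, hUd, -, hUf⟩ := Groth.Agent.S14790.result hgen d
  have hzU : genericPoint Z ∈ U :=
    ((genericPoint_spec Z).mem_open_set_iff U.2).2 (by simpa using hUd.nonempty)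
  haveI : UniversallyOpen (d ∣_ U) := inferInstance
  let m := (d ∣_ U) ≫ U.ι ≫ i
  haveI : UniversallyOpen m := inferInstance
  let O : T₁.Opens := ⟨Set.range m, m.isOpenMap.isOpen_range⟩
  have hd : d z₀ = genericPoint Z := by rw [Scheme.Hom.comp_apply, hz₀, hπ]
  have hgm : i (genericPoint Z) ∈ O := by
    refine ⟨⟨z₀, show d z₀ ∈ U from hd ▸ hzU⟩, ?_⟩
    show m _ = _
    rw [Scheme.Hom.comp_apply, Scheme.Hom.comp_apply]
    refine congrArg i (Eq.trans ?_ hd)
    exact (Scheme.Hom.comp_apply _ _ _).symm.trans (congrArg (fun f : _ ⟶ Z => f _) (morphismRestrict_ι d U))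
  refine ⟨O, ((genericPoint_spec T₁).mem_open_set_iff O.2).2 (by simpa using ⟨_, hgm⟩), fun k => ?_⟩
  haveI : Surjective (m ∣_ O) := ⟨fun o => by
    obtain ⟨w, hw⟩ : O.ι o ∈ Set.range m := o.2
    refine ⟨⟨w, show m w ∈ O from ⟨w, rfl⟩⟩, O.ι.isOpenEmbedding.injective ?_⟩
    exact ((Scheme.Hom.comp_apply _ _ _).symm.trans (congrArg (fun f : _ ⟶ T₁ => f _) (morphismRestrict_ι m O))).trans hw⟩
  haveI : UniversallyOpen (m ∣_ O) := IsZariskiLocalAtTarget.restrict (P := @UniversallyOpen) inferInstance O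
  refine isFLC_of_pull (m ∣_ O) _ ((Strata.lcPred_comp _ _ _).2 ?_)
  let e := (m ⁻¹ᵁ O).ι ≫ (d ⁻¹ᵁ U).ι ≫ pullback.fst (g j) a
  have he : (m ∣_ O) ≫ O.ι ≫ g₁ = e ≫ g j ≫ q := by
    rw [← Category.assoc, morphismRestrict_ι]
    show ((m ⁻¹ᵁ O).ι ≫ m) ≫ g₁ = ((m ⁻¹ᵁ O).ι ≫ (d ⁻¹ᵁ U).ι ≫ pullback.fst (g j) a) ≫ g j ≫ q
    refine (Category.assoc _ _ _).trans (Eq.trans (congrArg ((m ⁻¹ᵁ O).ι ≫ ·) ?_) (Category.assoc _ _ _).symm)
    show ((d ∣_ U) ≫ U.ι ≫ i) ≫ g₁ = _
    rw [← Category.assoc (d ∣_ U), morphismRestrict_ι, Category.assoc, Category.assoc, Category.assoc]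
    refine Eq.trans (congrArg ((d ⁻¹ᵁ U).ι ≫ ·) ?_) (Category.assoc _ _ _).symm
    show c ≫ b ≫ i ≫ g₁ = pullback.fst (g j) a ≫ g j ≫ q
    rw [show b ≫ i ≫ g₁ = a ≫ q from pullback.condition.symm]
    exact (pullback.condition_assoc q).symm
  show Strata.lcPred (F k) _
  rw [he]
  exact Strata.stable_lcPred (F k) e _ ((Strata.lcPred_comp (F k) q (g j)).1 (hF k j))

end Groth.L27.FLCDesc
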