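import Groth.Agent.L28.Spz.Global
import Groth.Agent.L28.Spz.Card
import Groth.Agent.L28.Strata.Support
import Groth.Agent.L28.ExtShriek.Descent
import Groth.Agent.L27.LimBC.LAFibre

/-! # Finite local constancy descends along surjective universally open morphisms -/

universe u

open CategoryTheory CategoryTheory.Limits AlgebraicGeometry Opposite

set_option backward.isDefEq.respectTransparency.types false
set_option linter.style.haveILetI false
set_option linter.unusedSectionVars false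

namespace Groth.L27.FLCDesc

open Groth.L28

theorem bijective_stalk_at {X : Scheme.{u}} {F : EtCoh.Ab X} {V : X.Etale} {M : Type} [AddCommGroup M]
    (s : M →+ F.obj.obj (op V)) {α : EtCoh.const V.left M ⟶ (EtCoh.pull (X := V.left) (Y := X) V.hom).obj F}
    (hα : ∀ (Ω : Type u) [Field Ω] [IsSepClosed Ω] (η : Spec (CommRingCat.of Ω) ⟶ V.left),
      Function.Bijective (Spz.germ F V s η) ↔ Function.Bijective ((EtCoh.stalk η).map α))
    {Ω Ω' : Type u} [Field Ω] [IsSepClosed Ω] [Field Ω'] [IsSepClosed Ω'] (η : Spec (CommRingCat.of Ω) ⟶ V.left)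
    (η' : Spec (CommRingCat.of Ω') ⟶ V.left) (h : η.base default = η'.base default)
    (hb : Function.Bijective ((EtCoh.stalk η).map α)) : Function.Bijective ((EtCoh.stalk η').map α) :=
  (hα Ω' η').1 (Spz.bijective_germ_of_iso η' h ((hα Ω η).2 hb))

theorem isIso_of_bijLocus {T : Scheme.{u}} {A B : EtCoh.Ab T} (φ : A ⟶ B) (h : ∀ t, t ∈ Spz.bijLocus φ) :
    IsIso φ := by
  refine (Sheaf.isLocallyBijective_iff_isIso _).1
    ⟨EtSite.isLocallyInjective_of_some_stalks _ fun t => ?_, EtSite.isLocallySurjective_of_some_stalks _ fun t => ?_⟩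
  · obtain ⟨Ω, _, _, ξ, hξ⟩ := EtSite.exists_geometric_point t
    exact ⟨Ω, inferInstance, inferInstance, ξ, hξ, (h t Ω ξ hξ).1⟩
  · obtain ⟨Ω, _, _, ξ, hξ⟩ := EtSite.exists_geometric_point t
    exact ⟨Ω, inferInstance, inferInstance, ξ, hξ, (h t Ω ξ hξ).2⟩

/-- A sheaf is finite locally constant if its pullback along a surjective universally open morphism is. -/
theorem isFLC_of_pull {W X : Scheme.{u}} (h : W ⟶ X) [Surjective h] [UniversallyOpen h] (F : EtCoh.Ab X)
    (hF : EtCoh.IsFiniteLocallyConstant ((EtCoh.pull h).obj F)) : EtCoh.IsFiniteLocallyConstant F := by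
  refine ExtShriek.isFLC_of_cover fun x => ?_
  obtain ⟨w, rfl⟩ := h.surjective x
  obtain ⟨Ω, _, _, ξw, rfl⟩ := EtSite.exists_geometric_point w
  haveI : Finite ((EtCoh.pull h ⋙ EtCoh.stalk ξw).obj F) :=
    Spz.finite_stalk' (Spz.isConstructible_of_isFLC hF) ξw
  haveI hfin : Finite ((EtCoh.stalk (ξw ≫ h)).obj F) :=
    Finite.of_equiv _ ((EtSite.stalkPullIso h ξw).app F).addCommGroupIsoToAddEquiv.toEquiv
  obtain ⟨V, hV, y, M, _, _, s, hs⟩ := Spz.exists_lift_stalk (ξw ≫ h) F hfin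
  let g : V.left ⟶ X := V.hom
  haveI : Etale g := V.prop
  let η₀ : Spec (CommRingCat.of Ω) ⟶ V.left := y.left
  have hy : η₀ ≫ g = ξw ≫ h := Over.w y
  obtain ⟨α, hα⟩ := Spz.exists_alpha (F := F) (V := V) (s := s)
  have h₀ : Function.Bijective ((EtCoh.stalk η₀).map α) :=
    (hα Ω η₀).1 (Spz.bijective_germ_of_germY y η₀ rfl hs)
  -- pull back to `W`
  let p := pullback.snd h g
  haveI : UniversallyOpen p := MorphismProperty.pullback_snd _ _ inferInstance
  haveI : Surjective p := MorphismProperty.pullback_snd _ _ inferInstance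
  let β := (EtCoh.pull p).map α
  have hA : EtCoh.IsFiniteLocallyConstant ((EtCoh.pull p).obj (EtCoh.const V.left M)) :=
    Strata.isFLC_of_iso (EtCore.pullConst p M).symm (ExtShriek.isFLC_const _ M)
  have hB : EtCoh.IsFiniteLocallyConstant ((EtCoh.pull p).obj ((EtCoh.pull g).obj F)) :=
    Strata.isFLC_of_iso (((EtCore.pullComp (pullback.fst h g) h).app F).symm ≪≫
      (EtCore.pullCongr pullback.condition).app F ≪≫ (EtCore.pullComp p g).app F)
      (LocConst.isFiniteLocallyConstant_pull _ _ hF)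
  have hopen : IsOpen (Spz.bijLocus β) := by
    obtain ⟨hk, hc⟩ := LocConstAb.isFiniteLocallyConstant_kernel_cokernel β hA hB
    rw [Spz.bijLocus_eq]
    exact (Locus.isClopen_zero_stalks hk).isOpen.inter (Locus.isClopen_zero_stalks hc).isOpen
  have hLimg : Spz.bijLocus α = p '' Spz.bijLocus β := by
    ext v
    constructor
    · intro hv
      obtain ⟨z, rfl⟩ := p.surjective v
      refine ⟨z, fun Ω' _ _ ξ hξ => (LimBC.bijective_stalk_comp p ξ rfl α).2 (hv Ω' (ξ ≫ p) ?_), rfl⟩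
      exact (Scheme.Hom.comp_apply _ _ _).trans (congrArg p hξ)
    · rintro ⟨z, hz, rfl⟩ Ω' _ _ η hη
      obtain ⟨Ω'', _, _, ξ, hξ⟩ := EtSite.exists_geometric_point z
      exact bijective_stalk_at s hα (ξ ≫ p) η ((Scheme.Hom.comp_apply _ _ _).trans ((congrArg p hξ).trans hη.symm))
        ((LimBC.bijective_stalk_comp p ξ rfl α).1 (hz Ω'' ξ hξ))
  let L : V.left.Opens := ⟨Spz.bijLocus α, hLimg ▸ p.isOpenMap _ hopen⟩
  have hη₀ : η₀ default ∈ L := fun Ω' _ _ η hη => bijective_stalk_at s hα η₀ η hη.symm h₀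
  haveI : IsIso ((EtCoh.pull L.ι).map α) := isIso_of_bijLocus _ fun t Ω' _ _ ξ hξ =>
    (LimBC.bijective_stalk_comp L.ι ξ rfl α).2 ((show L.ι t ∈ L from t.2) Ω' (ξ ≫ L.ι)
      ((Scheme.Hom.comp_apply _ _ _).trans (congrArg L.ι hξ)))
  refine ⟨L, L.ι ≫ g, inferInstance, ⟨⟨η₀ default, hη₀⟩, ?_⟩, ?_⟩
  · exact (Scheme.Hom.comp_apply _ _ _).symm.trans (congrArg (fun m => m default) hy)
  · exact Strata.isFLC_of_iso ((EtCore.pullConst L.ι M).symm ≪≫ asIso ((EtCoh.pull L.ι).map α) ≪≫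
      ((EtCore.pullComp L.ι g).app F).symm) (ExtShriek.isFLC_const _ M)

end Groth.L27.FLCDesc
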